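import Cfsg.Agent.Lib.Lead.G24EP.Data
import Cfsg.Agent.Lib.Lead.PL.CoxBridge
import Cfsg.Agent.Lib.Lead.J2.PermData
import Cfsg.Agent.Lib.Helper6.SuzE6TC

/-! # G₂(4) on the 416 cosets of J₂: kernel checks -/

set_option autoImplicit false
set_option maxRecDepth 100000

namespace Cfsg.Agent.G24EP

open Cfsg.Agent.PL Cfsg.Agent.PL.Cox Cfsg.Agent.Lib.Helper6 Cfsg.Agent.J2

theorem chk_cols : colsOK SuzE6TC.tab gl cgs = true := by decide +kernel

theorem chk_run : runK 416 prog cgs (fun r => idxs.map fun t => r.getD t (pone 416)) = outs := by decide +kernel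

theorem chk_fG : forestOK 416 cgs labG 0 [0] 18 = true := by decide +kernel

theorem chk_fH : forestOK 416 gensH labH colH [0, 1, 38] 17 = true := by decide +kernel

theorem chk_f1 : forestOK 416 gens1 lab1 col1 roots1 7 = true := by decide +kernel

theorem chk_f2 : forestOK 416 gens2 lab2 col2 roots2 8 = true := by decide +kernel

theorem chk_fixH : ∀ c ∈ gensH, ([0].all fun x => Nat.beq (lk c x) x) = true := by decide +kernel

theorem chk_fix1 : ∀ c ∈ gens1, ([38, 0].all fun x => Nat.beq (lk c x) x) = true := by decide +kernel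

theorem chk_fix2 : ∀ c ∈ gens2, ([1, 0].all fun x => Nat.beq (lk c x) x) = true := by decide +kernel

theorem chk_fixh : ∀ c ∈ [h0, h1, h2, h3], ([0].all fun x => Nat.beq (lk c x) x) = true := by decide +kernel

theorem chk_colH : ∀ t < 416, lk colH t < 3 := by decide +kernel

theorem chk_col1 : ∀ t < 416, lk col1 t < 4 := by decide +kernel

theorem chk_col2 : ∀ t < 416, lk col2 t < 7 := by decide +kernel

theorem chk_szH : ∀ i < 3, ((List.range 416).filter fun t => Nat.beq (lk colH t) i).length = szH.getD i 0 := by decide +kernel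

theorem chk_sz1 : ∀ i < 4, ((List.range 416).filter fun t => Nat.beq (lk col1 t) i).length = sz1.getD i 0 := by decide +kernel

theorem chk_sz2 : ∀ i < 7, ((List.range 416).filter fun t => Nat.beq (lk col2 t) i).length = sz2.getD i 0 := by decide +kernel

theorem chk_col0 : ∀ t < 416, lk colH t = 0 → t = 0 := by decide +kernel

theorem chk_in1 : ∀ t < 416, lk colH t = 2 → lk col1 t < 3 := by decide +kernel

theorem chk_in2 : ∀ t < 416, lk colH t = 1 → lk col2 t < 6 := by decide +kernel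

theorem chk_pts : ∀ i < 315, lk ptsT i < 416 ∧ lk idxT (lk ptsT i) = i ∧ lk colH (lk ptsT i) = 1 := by decide +kernel

theorem chk_idx : ∀ t < 416, lk colH t = 1 → lk idxT t < 315 ∧ lk ptsT (lk idxT t) = t := by decide +kernel

theorem chk_h0 : ∀ i < 315, lk h0 (lk ptsT i) = lk ptsT (g24.getD i 0) := by decide +kernel

theorem chk_h1 : ∀ i < 315, lk h1 (lk ptsT i) = lk ptsT (g77.getD i 0) := by decide +kernel

theorem chk_h2 : ∀ i < 315, lk h2 (lk ptsT i) = lk ptsT (g165.getD i 0) := by decide +kernel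

theorem chk_h3 : ∀ i < 315, lk h3 (lk ptsT i) = lk ptsT (g202.getD i 0) := by decide +kernel

theorem chk_divH : ∀ I ∈ (Finset.range 3).powerset, 0 ∈ I → (∑ i ∈ I, szH.getD i 0) ∣ 416 →
    (∑ i ∈ I, szH.getD i 0) = 1 ∨ (∑ i ∈ I, szH.getD i 0) = 416 := by decide +kernel

theorem chk_div1 : ∀ I ∈ (Finset.range 4).powerset, 0 ∈ I → (∑ i ∈ I, sz1.getD i 0) ∣ 100 →
    (∑ i ∈ I, sz1.getD i 0) = 1 ∨ (∑ i ∈ I, sz1.getD i 0) = 100 := by decide +kernel

theorem chk_div2 : ∀ I ∈ (Finset.range 7).powerset, 0 ∈ I → (∑ i ∈ I, sz2.getD i 0) ∣ 315 →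
    (∑ i ∈ I, sz2.getD i 0) = 1 ∨ (∑ i ∈ I, sz2.getD i 0) = 315 := by decide +kernel

theorem chk_orb1 : ∀ I ∈ (Finset.range 3).powerset, 2 ∈ I → (∑ i ∈ I, szH.getD i 0) ∣ 604800 → I = {2} := by decide +kernel

theorem chk_orb2 : ∀ I ∈ (Finset.range 3).powerset, 1 ∈ I → (∑ i ∈ I, szH.getD i 0) ∣ 604800 → I = {1} := by decide +kernel

theorem chk_c0 : lk colH 0 = 0 ∧ lk colH 1 = 1 ∧ lk colH 38 = 2 ∧ lk col1 38 = 0 ∧ lk col2 1 = 0 := by decide +kernel

end Cfsg.Agent.G24EP
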