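import Mathlib

/-!
# Maximality of point stabilisers from the lengths of the suborbits

If the points are coloured so that points of the same colour are joined by the stabiliser `H` of a point `a`, then the orbit of `a`
under any group between `H` and `G` is a union of colour classes; when no such union has a size that divides the index of `H`
(other than the trivial ones), `H` is a maximal subgroup.
-/

set_option autoImplicit false

namespace Cfsg.Agent.G24EP

open MulAction

/-- a set of points that contains, with each point, all points of the same colour, has as many elements as these colour classes -/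
theorem card_of_saturated {X : Type*} [Fintype X] [DecidableEq X] (c : X → ℕ) (B : Finset X)
    (hB : ∀ x ∈ B, ∀ y, c y = c x → y ∈ B) :
    B.card = ∑ i ∈ B.image c, (Finset.univ.filter fun x => c x = i).card := by
  rw [Finset.card_eq_sum_card_fiberwise (f := c) (t := B.image c) (fun x hx => Finset.mem_image_of_mem c hx)]
  refine Finset.sum_congr rfl fun i hi => ?_
  congr 1
  ext y
  simp only [Finset.mem_filter, Finset.mem_univ, true_and]
  constructor
  · exact fun h => h.2
  · intro hy
    obtain ⟨x, hx, hxi⟩ := Finset.mem_image.1 hi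
    exact ⟨hB x hx y (hy.trans hxi.symm), hy⟩

variable {G X : Type*} [Group G] [MulAction G X]

theorem stabilizer_subgroup_eq (K : Subgroup G) (a : X) : stabilizer K a = (stabilizer G a).subgroupOf K := by
  ext k
  rw [mem_stabilizer_iff, Subgroup.mem_subgroupOf, mem_stabilizer_iff, Subgroup.smul_def]

/-- the orbit of a point under a subgroup, as a finite set -/
noncomputable def orbitFinset [Fintype X] (K : Subgroup G) (a : X) : Finset X :=
  (orbit K a).toFinite.toFinset

theorem mem_orbitFinset [Fintype X] {K : Subgroup G} {a x : X} : x ∈ orbitFinset K a ↔ x ∈ orbit K a := by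
  rw [orbitFinset, Set.Finite.mem_toFinset]

theorem card_orbitFinset [Fintype X] (K : Subgroup G) (a : X) :
    (orbitFinset K a).card = (stabilizer G a).relIndex K := by
  have h1 : ((orbitFinset K a : Finset X) : Set X) = orbit K a := by
    ext x
    exact mem_orbitFinset
  rw [← Set.ncard_coe_finset, h1, ← index_stabilizer, stabilizer_subgroup_eq, Subgroup.relIndex]

/-- **The stabiliser of a point is a maximal subgroup**, when the colour classes are joined by the stabiliser and the sizes of their unions
do not divide the index. -/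
theorem isCoatom_stabilizer [Fintype X] [DecidableEq X] (a : X) (c : X → ℕ) (k : ℕ) (sz : ℕ → ℕ)
    (hsz : ∀ i < k, (Finset.univ.filter fun x => c x = i).card = sz i) (hck : ∀ x, c x < k)
    (N : ℕ) (hN : (stabilizer G a).index = N) (hN1 : 1 < N)
    (hconn : ∀ x ∈ orbit G a, ∀ y, c y = c x → ∃ h ∈ stabilizer G a, h • x = y)
    (hdiv : ∀ I ∈ (Finset.range k).powerset, c a ∈ I → (∑ i ∈ I, sz i) ∣ N → (∑ i ∈ I, sz i) = 1 ∨ (∑ i ∈ I, sz i) = N) :
    IsCoatom (stabilizer G a) := by
  classical
  refine ⟨?_, ?_⟩
  · intro htop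
    rw [htop, Subgroup.index_top] at hN
    omega
  · intro K hK
    have hsat : ∀ x ∈ orbitFinset K a, ∀ y, c y = c x → y ∈ orbitFinset K a := by
      intro x hx y hy
      rw [mem_orbitFinset] at hx ⊢
      obtain ⟨κ, rfl⟩ := hx
      have hxG : (κ • a) ∈ orbit G a := ⟨(κ : G), rfl⟩
      obtain ⟨h, hh, hxy⟩ := hconn _ hxG y hy
      refine ⟨⟨h, hK.le hh⟩ * κ, ?_⟩
      show (⟨h, hK.le hh⟩ * κ : ↥K) • a = y
      rw [mul_smul, ← hxy]
      rfl
    have hcard := card_of_saturated c (orbitFinset K a) hsat
    rw [card_orbitFinset] at hcard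
    have hI : (orbitFinset K a).image c ∈ (Finset.range k).powerset := by
      rw [Finset.mem_powerset]
      intro i hi
      obtain ⟨x, -, rfl⟩ := Finset.mem_image.1 hi
      exact Finset.mem_range.2 (hck x)
    have ha : c a ∈ (orbitFinset K a).image c :=
      Finset.mem_image_of_mem c (mem_orbitFinset.2 (mem_orbit_self a))
    have hsum : ∑ i ∈ (orbitFinset K a).image c, (Finset.univ.filter fun x => c x = i).card =
        ∑ i ∈ (orbitFinset K a).image c, sz i :=
      Finset.sum_congr rfl fun i hi => hsz i (Finset.mem_range.1 (Finset.mem_powerset.1 hI hi))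
    rw [hsum] at hcard
    have hdvd : (stabilizer G a).relIndex K ∣ N := hN ▸ Subgroup.relIndex_dvd_index_of_le hK.le
    rcases hdiv _ hI ha (hcard ▸ hdvd) with h1 | h1
    · rw [← hcard, Subgroup.relIndex_eq_one] at h1
      exact absurd (lt_of_lt_of_le hK h1) (lt_irrefl _)
    · rw [← hcard] at h1
      have h2 := Subgroup.relIndex_mul_index hK.le
      rw [h1, hN] at h2
      have h3 : K.index = 1 := by
        have hN0 : 0 < N := by omega
        exact Nat.eq_of_mul_eq_mul_left hN0 (by rw [h2, Nat.mul_one])
      exact Subgroup.index_eq_one.1 h3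

/-- **An orbit is a colour class**, when the colour classes are joined by the group and no other union of classes has a size that divides
the order of the group. -/
theorem orbit_eq_class [Finite G] [Fintype X] [DecidableEq X] (b : X) (c : X → ℕ) (k : ℕ) (sz : ℕ → ℕ)
    (hsz : ∀ i < k, (Finset.univ.filter fun x => c x = i).card = sz i) (hck : ∀ x, c x < k)
    (hconn : ∀ x y, c y = c x → ∃ g : G, g • x = y)
    (hdiv : ∀ I ∈ (Finset.range k).powerset, c b ∈ I → (∑ i ∈ I, sz i) ∣ Nat.card G → I = {c b}) :
    orbit G b = {x | c x = c b} := by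
  classical
  have hsat : ∀ x ∈ orbitFinset (⊤ : Subgroup G) b, ∀ y, c y = c x → y ∈ orbitFinset (⊤ : Subgroup G) b := by
    intro x hx y hy
    rw [mem_orbitFinset] at hx ⊢
    obtain ⟨κ, rfl⟩ := hx
    obtain ⟨g, hg⟩ := hconn (κ • b) y hy
    refine ⟨⟨g, Subgroup.mem_top g⟩ * κ, ?_⟩
    show (⟨g, Subgroup.mem_top g⟩ * κ : ↥(⊤ : Subgroup G)) • b = y
    rw [mul_smul, ← hg]
    rfl
  have hcard := card_of_saturated c (orbitFinset (⊤ : Subgroup G) b) hsat
  rw [card_orbitFinset, Subgroup.relIndex_top_right] at hcard
  have hI : (orbitFinset (⊤ : Subgroup G) b).image c ∈ (Finset.range k).powerset := by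
    rw [Finset.mem_powerset]
    intro i hi
    obtain ⟨x, -, rfl⟩ := Finset.mem_image.1 hi
    exact Finset.mem_range.2 (hck x)
  have hb : c b ∈ (orbitFinset (⊤ : Subgroup G) b).image c :=
    Finset.mem_image_of_mem c (mem_orbitFinset.2 (mem_orbit_self b))
  have hsum : ∑ i ∈ (orbitFinset (⊤ : Subgroup G) b).image c, (Finset.univ.filter fun x => c x = i).card =
      ∑ i ∈ (orbitFinset (⊤ : Subgroup G) b).image c, sz i :=
    Finset.sum_congr rfl fun i hi => hsz i (Finset.mem_range.1 (Finset.mem_powerset.1 hI hi))
  rw [hsum] at hcard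
  have hdvd : (stabilizer G b).index ∣ Nat.card G := Subgroup.index_dvd_card _
  have hIeq := hdiv _ hI hb (hcard ▸ hdvd)
  ext x
  show x ∈ orbit G b ↔ c x = c b
  constructor
  · rintro ⟨g, rfl⟩
    have hx : g • b ∈ orbitFinset (⊤ : Subgroup G) b := mem_orbitFinset.2 ⟨⟨g, Subgroup.mem_top g⟩, rfl⟩
    have := Finset.mem_image_of_mem c hx
    rw [hIeq, Finset.mem_singleton] at this
    exact this
  · intro hx
    have := hsat b (mem_orbitFinset.2 (mem_orbit_self b)) x hx
    rw [mem_orbitFinset] at this
    obtain ⟨κ, hκ⟩ := this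
    exact ⟨(κ : G), hκ⟩

end Cfsg.Agent.G24EP
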