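import Cfsg.Agent.Lib.Lead.PL.Tree

/-!
# Forests: the points of each colour are joined to the root of the colour by elements of a subgroup
-/

set_option autoImplicit false

namespace Cfsg.Agent.G24EP

open Cfsg.Agent.PL

/-- every point whose colour has a root is joined to that root by the tree -/
def forestOK (n : ℕ) (gens : List ℕ) (lab col : ℕ) (roots : List ℕ) (fuel : ℕ) : Bool :=
  (List.range n).all fun t =>
    cond (Nat.blt (lk col t) roots.length) (traceTo gens lab (roots.getD (lk col t) 0) fuel t) true

variable {n : ℕ}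

/-- two points of the same colour are joined by an element of the subgroup -/
theorem forest_conn (hn : n ≤ 4096) (K : Subgroup (Equiv.Perm (Fin n))) (gens : List ℕ)
    (hg : ∀ c ∈ gens, ∃ g ∈ K, enc n g = c) (lab col : ℕ) (roots : List ℕ) (fuel : ℕ)
    (hroots : ∀ r ∈ roots, r < n) (h : forestOK n gens lab col roots fuel = true)
    (x y : Fin n) (hxy : lk col y = lk col x) (hx : lk col x < roots.length) : ∃ g ∈ K, g x = y := by
  rw [forestOK, List.all_eq_true] at h
  have hr : roots.getD (lk col x) 0 < n := by
    rw [List.getD_eq_getElem _ _ hx]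
    exact hroots _ (List.getElem_mem hx)
  have h1 := h x (List.mem_range.2 x.2)
  have h2 := h y (List.mem_range.2 y.2)
  rw [hxy] at h2
  have hb : Nat.blt (lk col x) roots.length = true := by
    simpa [Nat.blt] using hx
  rw [hb, cond_true] at h1 h2
  obtain ⟨m1, e1⟩ := rep_spec hn K gens hg lab (roots.getD (lk col x) 0) fuel x x.2 h1 hr
  obtain ⟨m2, e2⟩ := rep_spec hn K gens hg lab (roots.getD (lk col x) 0) fuel y y.2 h2 hr
  refine ⟨rep hn K gens hg lab (roots.getD (lk col x) 0) fuel y *
    (rep hn K gens hg lab (roots.getD (lk col x) 0) fuel x)⁻¹, K.mul_mem m2 (K.inv_mem m1), ?_⟩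
  have e1' : (rep hn K gens hg lab (roots.getD (lk col x) 0) fuel x)⁻¹ x = ⟨roots.getD (lk col x) 0, hr⟩ := by
    rw [Equiv.Perm.inv_eq_iff_eq, e1]
  rw [Equiv.Perm.mul_apply, e1', e2]

theorem sum_range_ite (p : ℕ → Bool) : ∀ n : ℕ,
    (∑ t ∈ Finset.range n, if p t = true then 1 else 0) = (List.range n).countP p
  | 0 => rfl
  | n + 1 => by
    rw [Finset.sum_range_succ, sum_range_ite p n, List.range_succ, List.countP_append, List.countP_singleton]

/-- the number of points of a colour -/
theorem card_colour (col : ℕ) (i : ℕ) :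
    (Finset.univ.filter fun x : Fin n => lk col x = i).card =
      ((List.range n).filter fun t => Nat.beq (lk col t) i).length := by
  rw [← List.countP_eq_length_filter, Finset.card_filter,
    Fin.sum_univ_eq_sum_range (fun t => if lk col t = i then 1 else 0) n, ← sum_range_ite]
  refine Finset.sum_congr rfl fun t _ => ?_
  by_cases h : lk col t = i
  · rw [if_pos h, if_pos (by rw [h]; exact Nat.beq_refl i)]
  · rw [if_neg h, if_neg (fun hb => h (Nat.eq_of_beq_eq_true hb))]

end Cfsg.Agent.G24EP
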