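import Mathlib
import Cfsg.Prelude.Def_Spor_J2

/-!
# Extremely primitive actions with point stabiliser J₂: the property, and its transport along isomorphisms
-/

set_option autoImplicit false

namespace Cfsg.Agent.G24EP

open MulAction

/-- `H` is a maximal subgroup isomorphic to J₂ whose intersections with its other conjugates are maximal subgroups of `H` -/
def ExtPrim (G : Type*) [Group G] (H : Subgroup G) : Prop :=
  IsCoatom H ∧ Cfsg.Spor.IsoJ2 H ∧
    ∀ x : G, x ∉ H → IsCoatom ((H ⊓ H.map (MulAut.conj x).toMonoidHom).subgroupOf H)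

variable {G G' : Type*} [Group G] [Group G']

theorem map_conj_comp (e : G ≃* G') (x : G) :
    (MulAut.conj (e x)).toMonoidHom.comp e.toMonoidHom = e.toMonoidHom.comp (MulAut.conj x).toMonoidHom := by
  ext g
  simp [MulAut.conj_apply]

theorem subgroupOf_map (e : G ≃* G') (H K : Subgroup G) :
    (K.map e.toMonoidHom).subgroupOf (H.map e.toMonoidHom) =
      (K.subgroupOf H).map (e.subgroupMap H).toMonoidHom := by
  ext ⟨y, hy⟩
  rw [Subgroup.mem_subgroupOf, Subgroup.mem_map]
  constructor
  · rintro ⟨g, hgK, hgy⟩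
    obtain ⟨g', hg'H, hg'y⟩ := Subgroup.mem_map.1 hy
    have hgg' : g = g' := e.injective (by rw [MulEquiv.coe_toMonoidHom] at hgy hg'y; rw [hgy, hg'y])
    subst hgg'
    refine ⟨⟨g, hg'H⟩, ?_, ?_⟩
    · exact Subgroup.mem_subgroupOf.2 hgK
    · apply Subtype.ext
      exact hgy
  · rintro ⟨⟨g, hgH⟩, hgK, hgy⟩
    have hgK' : g ∈ K := Subgroup.mem_subgroupOf.1 hgK
    refine ⟨g, hgK', ?_⟩
    have := congrArg Subtype.val hgy
    exact this

theorem ExtPrim.map (e : G ≃* G') {H : Subgroup G} (h : ExtPrim G H) : ExtPrim G' (H.map e.toMonoidHom) := by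
  obtain ⟨h1, ⟨iso⟩, h3⟩ := h
  refine ⟨?_, ⟨(e.subgroupMap H).symm.trans iso⟩, ?_⟩
  · exact (OrderIso.isCoatom_iff (MulEquiv.mapSubgroup e) H).2 h1
  · intro x' hx'
    obtain ⟨x, rfl⟩ := e.surjective x'
    have hx : x ∉ H := fun hx => hx' (Subgroup.mem_map_of_mem _ hx)
    have h4 := h3 x hx
    have e1 : (H.map e.toMonoidHom).map (MulAut.conj (e x)).toMonoidHom =
        (H.map (MulAut.conj x).toMonoidHom).map e.toMonoidHom := by
      rw [Subgroup.map_map, Subgroup.map_map, map_conj_comp]
    have e2 : H.map e.toMonoidHom ⊓ (H.map e.toMonoidHom).map (MulAut.conj (e x)).toMonoidHom =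
        (H ⊓ H.map (MulAut.conj x).toMonoidHom).map e.toMonoidHom := by
      rw [e1, Subgroup.map_inf _ _ _ e.injective]
    rw [e2, subgroupOf_map]
    exact (OrderIso.isCoatom_iff (MulEquiv.mapSubgroup (e.subgroupMap H)) _).2 h4

/-- the stabiliser of a second point in the stabiliser of a first point -/
theorem inf_map_conj_subgroupOf {X : Type*} [MulAction G X] (a : X) (x : G) :
    ((stabilizer G a) ⊓ (stabilizer G a).map (MulAut.conj x).toMonoidHom).subgroupOf (stabilizer G a) =
      stabilizer (stabilizer G a) (x • a) := by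
  rw [← stabilizer_smul_eq_stabilizer_map_conj]
  ext h
  rw [Subgroup.mem_subgroupOf, Subgroup.mem_inf, mem_stabilizer_iff, mem_stabilizer_iff, mem_stabilizer_iff,
    Subgroup.smul_def]
  constructor
  · exact fun hh => hh.2
  · exact fun hh => ⟨h.2, hh⟩

/-- the stabilisers of the points of an orbit are maximal subgroups together -/
theorem isCoatom_stabilizer_smul {X : Type*} [MulAction G X] (g : G) (b : X) (h : IsCoatom (stabilizer G b)) :
    IsCoatom (stabilizer G (g • b)) := by
  rw [stabilizer_smul_eq_stabilizer_map_conj]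
  exact (OrderIso.isCoatom_iff (MulEquiv.mapSubgroup (MulAut.conj g)) _).2 h

end Cfsg.Agent.G24EP
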