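import Cfsg.Agent.Lib.Lead.G24EP.Chk
import Cfsg.Agent.Lib.Lead.G24EP.Coatom
import Cfsg.Agent.Lib.Lead.G24EP.Transport
import Cfsg.Agent.Lib.Lead.PL.Regs
import Cfsg.Agent.Lib.Helper6.G24Iso
import Cfsg.Agent.Lib.Helper6.ChevRing
import Cfsg.Agent.Lib.Helper5.J2Iso
import Cfsg.Agent.Lib.Helper7.J2Perm

/-!
# G₂(4) on the 416 cosets of J₂ is extremely primitive

The presented group `E6` (isomorphic to G₂(4)) acts faithfully on the 416 rows of its coset table; the stabiliser `H` of the row `0`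
has the orbits of lengths 1, 315, 100; the stabilisers in `H` of points of these orbits have orbits of lengths 1, 10, 32, 32, 80, 160
and 1, 36, 63 there.  No union of these suborbits has a size that divides the degree, so all these stabilisers are maximal subgroups.
On the orbit of length 315 the group `H` acts as the group of the 315 lines, which is J₂.
-/

set_option autoImplicit false
set_option maxRecDepth 100000
set_option linter.constructorNameAsVariable false

namespace Cfsg.Agent.G24EP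

open Cfsg Cfsg.Spor Cfsg.Agent.PL Cfsg.Agent.PL.Cox Cfsg.Agent.Lib.Helper6 Cfsg.Agent.Lib.Helper6.TC MulAction
open Cfsg.Agent.PG (fixer mem_fixer)
open Cfsg.Agent.J2
open Cfsg.Agent.Lib.Helper6.SS (Valid)

theorem n_le : SuzE6TC.data.T.n ≤ 4096 := by
  show 416 ≤ 4096
  norm_num

theorem n_le' : (416 : ℕ) ≤ 4096 := by norm_num

theorem ρ_ne_one : SuzE6TC.data.cert.ρ (Simp.wordG SuzE6TC.data [5]) ≠ 1 := by
  intro h1
  have h2 := SimpWPC.ρ_wordG_apply SuzE6TC.data (w := [5]) (by show ∀ x ∈ [5], x < 6; decide) 0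
    (by show 0 < 416; norm_num)
  rw [h1] at h2
  have h3 : SuzE6TC.tab.trace 0 [5] ≠ 0 := by decide +kernel
  exact h3 h2.symm

/-- the action on the rows is faithful -/
theorem ρ_inj : Function.Injective SuzE6TC.data.cert.ρ := by
  have : IsSimpleGroup SuzESub.E6 := SuzE6Simple.main.1
  exact T3Gen.injective_of_simple _ ρ_ne_one

/-- the permutation group on the rows -/
noncomputable abbrev P : Subgroup (Equiv.Perm (Fin 416)) := Cox.P SuzE6TC.data

theorem card_P : Nat.card ↥P = 251596800 := Cox.card_P SuzE6TC.data ρ_inj SuzE6Simple.main.2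

theorem regs_ok : RegsOK P (regs SuzE6TC.data gl) cgs := Cox.regs_ok SuzE6TC.data n_le gl cgs chk_cols

theorem h_outs : ∀ c ∈ outs, ∃ g ∈ P, enc 416 g = c :=
  exists_of_run n_le' regs_ok prog idxs outs chk_run

theorem sub_cgs : ∀ c ∈ cgs, c ∈ outs := by decide
theorem sub_gensH : ∀ c ∈ gensH, c ∈ outs := by decide
theorem sub_gens1 : ∀ c ∈ gens1, c ∈ outs := by decide
theorem sub_gens2 : ∀ c ∈ gens2, c ∈ outs := by decide
theorem sub_h : ∀ c ∈ [h0, h1, h2, h3], c ∈ outs := by decide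

theorem h_cgs : ∀ c ∈ cgs, ∃ g ∈ P, enc 416 g = c := fun c hc => h_outs c (sub_cgs c hc)

theorem lk_zero (t : ℕ) : lk 0 t = 0 := by
  show Nat.mod (Nat.shiftRight 0 (Nat.mul 12 t)) 4096 = 0
  simp

/-! ### the action is transitive -/

theorem orbit_zero : orbit ↥P (0 : Fin 416) = Set.univ := by
  refine Set.eq_univ_of_forall fun t => ?_
  obtain ⟨g, hg, hgt⟩ := forest_conn n_le' P cgs h_cgs labG 0 [0] 18 (by decide) chk_fG 0 t
    (by rw [lk_zero, lk_zero]) (by rw [lk_zero]; decide)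
  exact ⟨⟨g, hg⟩, hgt⟩

/-- the point stabiliser -/
noncomputable abbrev H : Subgroup ↥P := stabilizer ↥P (0 : Fin 416)

theorem index_H : H.index = 416 := by
  rw [index_stabilizer, orbit_zero, Set.ncard_univ, Nat.card_eq_fintype_card, Fintype.card_fin]

theorem card_H : Nat.card ↥H = 604800 := by
  have h := Subgroup.card_mul_index H
  rw [index_H, card_P] at h
  omega

/-! ### the orbits of the point stabiliser -/

theorem h_gensH : ∀ c ∈ gensH, ∃ g ∈ fixer P [0], enc 416 g = c :=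
  gens_mem_fixer n_le' P [0] gensH chk_fixH fun c hc => h_outs c (sub_gensH c hc)

theorem mem_H_of_fixer {g : Equiv.Perm (Fin 416)} (hg : g ∈ fixer P [0]) : (⟨g, hg.1⟩ : ↥P) ∈ H := by
  rw [mem_stabilizer_iff]
  exact hg.2 0 (List.mem_singleton.2 rfl) (by norm_num)

theorem connH (x y : Fin 416) (hxy : lk colH y = lk colH x) : ∃ h ∈ H, h • x = y := by
  obtain ⟨g, hg, hgxy⟩ := forest_conn n_le' (fixer P [0]) gensH h_gensH labH colH [0, 1, 38] 17 (by decide) chk_fH x y hxy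
    (chk_colH x x.2)
  exact ⟨⟨g, hg.1⟩, mem_H_of_fixer hg, hgxy⟩

theorem connHs (x y : Fin 416) (hxy : lk colH y = lk colH x) : ∃ g : ↥H, g • x = y := by
  obtain ⟨h, hh, hxy'⟩ := connH x y hxy
  exact ⟨⟨h, hh⟩, hxy'⟩

theorem hszH : ∀ i < 3, (Finset.univ.filter fun x : Fin 416 => lk colH x = i).card = szH.getD i 0 := fun i hi => by
  rw [card_colour]
  exact chk_szH i hi

theorem hsz1 : ∀ i < 4, (Finset.univ.filter fun x : Fin 416 => lk col1 x = i).card = sz1.getD i 0 := fun i hi => by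
  rw [card_colour]
  exact chk_sz1 i hi

theorem hsz2 : ∀ i < 7, (Finset.univ.filter fun x : Fin 416 => lk col2 x = i).card = sz2.getD i 0 := fun i hi => by
  rw [card_colour]
  exact chk_sz2 i hi

theorem cH0 : lk colH ((0 : Fin 416) : ℕ) = 0 := chk_c0.1
theorem cH1 : lk colH ((1 : Fin 416) : ℕ) = 1 := chk_c0.2.1
theorem cH38 : lk colH ((38 : Fin 416) : ℕ) = 2 := chk_c0.2.2.1
theorem c1_38 : lk col1 ((38 : Fin 416) : ℕ) = 0 := chk_c0.2.2.2.1
theorem c2_1 : lk col2 ((1 : Fin 416) : ℕ) = 0 := chk_c0.2.2.2.2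

/-- the point stabiliser is a maximal subgroup -/
theorem isCoatom_H : IsCoatom H :=
  isCoatom_stabilizer (G := ↥P) (0 : Fin 416) (fun t => lk colH t) 3 (fun i => szH.getD i 0) hszH (fun x => chk_colH x x.2)
    416 index_H (by norm_num) (fun x _ y hy => connH x y hy)
    (fun I hI h0 => chk_divH I hI (by rwa [cH0] at h0))

theorem orbit_38 : orbit ↥H (38 : Fin 416) = {x : Fin 416 | lk colH x = 2} := by
  have h := orbit_eq_class (G := ↥H) (38 : Fin 416) (fun t => lk colH t) 3 (fun i => szH.getD i 0) hszH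
    (fun x => chk_colH x x.2) (fun x y hy => connHs x y hy)
    (fun I hI h0 hd => by
      rw [cH38] at h0 ⊢
      rw [card_H] at hd
      exact chk_orb1 I hI h0 hd)
  rw [h]
  ext x
  show lk colH x = lk colH ((38 : Fin 416) : ℕ) ↔ lk colH x = 2
  rw [cH38]

theorem orbit_1 : orbit ↥H (1 : Fin 416) = {x : Fin 416 | lk colH x = 1} := by
  have h := orbit_eq_class (G := ↥H) (1 : Fin 416) (fun t => lk colH t) 3 (fun i => szH.getD i 0) hszH
    (fun x => chk_colH x x.2) (fun x y hy => connHs x y hy)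
    (fun I hI h0 hd => by
      rw [cH1] at h0 ⊢
      rw [card_H] at hd
      exact chk_orb2 I hI h0 hd)
  rw [h]
  ext x
  show lk colH x = lk colH ((1 : Fin 416) : ℕ) ↔ lk colH x = 1
  rw [cH1]

theorem ncard_class (i : ℕ) (hi : i < 3) : {x : Fin 416 | lk colH x = i}.ncard = szH.getD i 0 := by
  have : {x : Fin 416 | lk colH x = i} = ↑(Finset.univ.filter fun x : Fin 416 => lk colH x = i) := by
    ext x
    simp
  rw [this, Set.ncard_coe_finset, hszH i hi]

/-! ### the stabilisers of two points -/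

theorem h_gens1 : ∀ c ∈ gens1, ∃ g ∈ fixer P [38, 0], enc 416 g = c :=
  gens_mem_fixer n_le' P [38, 0] gens1 chk_fix1 fun c hc => h_outs c (sub_gens1 c hc)

theorem h_gens2 : ∀ c ∈ gens2, ∃ g ∈ fixer P [1, 0], enc 416 g = c :=
  gens_mem_fixer n_le' P [1, 0] gens2 chk_fix2 fun c hc => h_outs c (sub_gens2 c hc)

theorem conn1 (x : Fin 416) (hx : x ∈ orbit ↥H (38 : Fin 416)) (y : Fin 416) (hy : lk col1 y = lk col1 x) :
    ∃ h ∈ stabilizer ↥H (38 : Fin 416), h • x = y := by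
  rw [orbit_38] at hx
  have hx3 : lk col1 x < 3 := chk_in1 x x.2 hx
  obtain ⟨g, hg, hgxy⟩ := forest_conn n_le' (fixer P [38, 0]) gens1 h_gens1 lab1 col1 roots1 7 (by decide) chk_f1 x y hy hx3
  have hg0 : g 0 = 0 := hg.2 0 (by simp) (by norm_num)
  have hg38 : g 38 = 38 := hg.2 38 (by simp) (by norm_num)
  refine ⟨⟨⟨g, hg.1⟩, mem_stabilizer_iff.2 hg0⟩, mem_stabilizer_iff.2 hg38, hgxy⟩

theorem conn2 (x : Fin 416) (hx : x ∈ orbit ↥H (1 : Fin 416)) (y : Fin 416) (hy : lk col2 y = lk col2 x) :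
    ∃ h ∈ stabilizer ↥H (1 : Fin 416), h • x = y := by
  rw [orbit_1] at hx
  have hx3 : lk col2 x < 6 := chk_in2 x x.2 hx
  obtain ⟨g, hg, hgxy⟩ := forest_conn n_le' (fixer P [1, 0]) gens2 h_gens2 lab2 col2 roots2 8 (by decide) chk_f2 x y hy hx3
  have hg0 : g 0 = 0 := hg.2 0 (by simp) (by norm_num)
  have hg1 : g 1 = 1 := hg.2 1 (by simp) (by norm_num)
  refine ⟨⟨⟨g, hg.1⟩, mem_stabilizer_iff.2 hg0⟩, mem_stabilizer_iff.2 hg1, hgxy⟩

theorem index_stab38 : (stabilizer ↥H (38 : Fin 416)).index = 100 := by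
  rw [index_stabilizer, orbit_38, ncard_class 2 (by norm_num)]
  rfl

theorem index_stab1 : (stabilizer ↥H (1 : Fin 416)).index = 315 := by
  rw [index_stabilizer, orbit_1, ncard_class 1 (by norm_num)]
  rfl

theorem isCoatom_38 : IsCoatom (stabilizer ↥H (38 : Fin 416)) :=
  isCoatom_stabilizer (G := ↥H) (38 : Fin 416) (fun t => lk col1 t) 4 (fun i => sz1.getD i 0) hsz1 (fun x => chk_col1 x x.2)
    100 index_stab38 (by norm_num) conn1 (fun I hI h0 => chk_div1 I hI (by rwa [c1_38] at h0))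

theorem isCoatom_1 : IsCoatom (stabilizer ↥H (1 : Fin 416)) :=
  isCoatom_stabilizer (G := ↥H) (1 : Fin 416) (fun t => lk col2 t) 7 (fun i => sz2.getD i 0) hsz2 (fun x => chk_col2 x x.2)
    315 index_stab1 (by norm_num) conn2 (fun I hI h0 => chk_div2 I hI (by rwa [c2_1] at h0))

theorem coatom_of_ne (β : Fin 416) (hβ : β ≠ 0) : IsCoatom (stabilizer ↥H β) := by
  have hc : lk colH β ≠ 0 := fun h => hβ (Fin.ext (chk_col0 β β.2 h))
  have hc3 := chk_colH β β.2
  have h12 : lk colH β = 1 ∨ lk colH β = 2 := by omega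
  rcases h12 with h1 | h2
  · obtain ⟨g, hg⟩ := connHs 1 β (by rw [h1, cH1])
    rw [← hg]
    exact isCoatom_stabilizer_smul g 1 isCoatom_1
  · obtain ⟨g, hg⟩ := connHs 38 β (by rw [h2, cH38])
    rw [← hg]
    exact isCoatom_stabilizer_smul g 38 isCoatom_38

/-! ### the point stabiliser is J₂ -/

/-- the numbering of the orbit of length 315 by the 315 lines -/
def ptsF (i : Fin 315) : Fin 416 := ⟨lk ptsT i, (chk_pts i i.2).1⟩

theorem ptsF_inj : Function.Injective ptsF := by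
  intro i j hij
  have h := congrArg (fun t : Fin 416 => lk idxT t) hij
  simp only [ptsF] at h
  rw [(chk_pts i i.2).2.1, (chk_pts j j.2).2.1] at h
  exact Fin.ext h

theorem ptsF_mem (i : Fin 315) : ptsF i ∈ orbit ↥H (1 : Fin 416) := by
  rw [orbit_1]
  exact (chk_pts i i.2).2.2

theorem ptsF_surj (x : Fin 416) (hx : x ∈ orbit ↥H (1 : Fin 416)) : ∃ i, ptsF i = x := by
  rw [orbit_1] at hx
  obtain ⟨h1, h2⟩ := chk_idx x x.2 hx
  exact ⟨⟨lk idxT x, h1⟩, Fin.ext h2⟩

/-- the numbering, as a bijection -/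
noncomputable def E : Fin 315 ≃ ↥(orbit ↥H (1 : Fin 416)) :=
  Equiv.ofBijective (fun i => ⟨ptsF i, ptsF_mem i⟩)
    ⟨fun i j h => ptsF_inj (congrArg Subtype.val h), fun x => by
      obtain ⟨i, hi⟩ := ptsF_surj x.1 x.2
      exact ⟨i, Subtype.ext hi⟩⟩

theorem E_val (i : Fin 315) : (E i : Fin 416) = ptsF i := rfl

/-- the action of the point stabiliser on the 315 lines -/
noncomputable def ψ : ↥H →* Equiv.Perm (Fin 315) :=
  (E.symm.permCongrHom.toMonoidHom).comp (MulAction.toPermHom ↥H ↥(orbit ↥H (1 : Fin 416)))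

theorem ptsF_ψ (h : ↥H) (i : Fin 315) : ptsF (ψ h i) = h • ptsF i := by
  have h1 : E (ψ h i) = h • E i := by
    show E (E.symm (h • E i)) = _
    rw [Equiv.apply_symm_apply]
  have h2 := congrArg Subtype.val h1
  rw [E_val] at h2
  rw [h2]
  rfl

theorem h_hk : ∀ c ∈ [h0, h1, h2, h3], ∃ g ∈ fixer P [0], enc 416 g = c :=
  gens_mem_fixer n_le' P [0] [h0, h1, h2, h3] chk_fixh fun c hc => h_outs c (sub_h c hc)

theorem toPerm_mem_range (c : ℕ) (l : List ℕ) (hl : Valid 315 l) (hc : c ∈ [h0, h1, h2, h3])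
    (hchk : ∀ i < 315, lk c (lk ptsT i) = lk ptsT (l.getD i 0)) : SS.toPerm 315 l ∈ ψ.range := by
  obtain ⟨g, hg, hgc⟩ := h_hk c hc
  refine ⟨⟨⟨g, hg.1⟩, mem_H_of_fixer hg⟩, ?_⟩
  apply Equiv.ext
  intro i
  apply ptsF_inj
  rw [ptsF_ψ]
  apply Fin.ext
  show ((g (ptsF i) : Fin 416) : ℕ) = lk ptsT (SS.toPerm 315 l i)
  rw [← lk_enc_fin n_le' g (ptsF i), hgc, SS.toPerm_apply hl]
  exact hchk i i.2

theorem PJ2_le : PJ2 ≤ ψ.range := by
  rw [PJ2, Subgroup.closure_le]
  intro p hp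
  simp only [Set.mem_insert_iff, Set.mem_singleton_iff] at hp
  rcases hp with rfl | rfl | rfl | rfl
  · exact toPerm_mem_range h0 g24 valid_g24 (by simp) chk_h0
  · exact toPerm_mem_range h1 g77 valid_g77 (by simp) chk_h1
  · exact toPerm_mem_range h2 g165 valid_g165 (by simp) chk_h2
  · exact toPerm_mem_range h3 g202 valid_g202 (by simp) chk_h3

theorem range_eq : ψ.range = PJ2 := by
  symm
  apply Subgroup.eq_of_le_of_card_ge PJ2_le
  rw [Cfsg.Agent.Lib.Helper7.J2Perm.card_PJ2]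
  calc Nat.card ↥ψ.range ≤ Nat.card ↥H := Nat.card_le_card_of_surjective _ ψ.rangeRestrict_surjective
    _ = 604800 := card_H

/-- the point stabiliser is isomorphic to J₂ -/
theorem isoJ2_H : IsoJ2 ↥H := by
  have hbij : Function.Bijective ψ.rangeRestrict :=
    ψ.rangeRestrict_surjective.bijective_of_nat_card_le
      (by rw [card_H, range_eq, Cfsg.Agent.Lib.Helper7.J2Perm.card_PJ2])
  exact ⟨((MulEquiv.ofBijective ψ.rangeRestrict hbij).trans (MulEquiv.subgroupCongr range_eq)).trans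
    Cfsg.Agent.Lib.Helper5.J2Iso.isoPJ2.symm⟩

/-! ### the theorem -/

theorem extPrim_P : ExtPrim ↥P H := by
  refine ⟨isCoatom_H, isoJ2_H, fun x hx => ?_⟩
  rw [inf_map_conj_subgroupOf]
  apply coatom_of_ne
  intro h0
  exact hx (mem_stabilizer_iff.2 h0)

/-- **G₂(4) has a maximal subgroup J₂ whose action on the cosets is extremely primitive.** -/
theorem main {F : Type*} [Field F] [Fintype F] (hF : Fintype.card F = 4) :
    ∃ H' : Subgroup ↥(Cfsg.Lie.chevG2.group F), ExtPrim ↥(Cfsg.Lie.chevG2.group F) H' := by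
  have e4 : M21.F4c ≃+* F := FiniteField.ringEquivOfCardEq (by rw [M21.F4c.card, hF])
  let e : ↥P ≃* ↥(Cfsg.Lie.chevG2.group F) :=
    ((Cox.iso SuzE6TC.data ρ_inj).symm.trans G24Iso.isoE6).trans (ChevRing.groupEquiv Cfsg.Lie.chevG2 e4)
  exact ⟨H.map e.toMonoidHom, extPrim_P.map e⟩

end Cfsg.Agent.G24EP
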